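import Mathlib
import Cfsg.Agent.Helper58.Marggraf
import Cfsg.Agent.Helper60.Marg.Defs

/-!
# (Q5) for S3620 (helper60, Marggraf): the final contradiction `qp_contra`
-/

set_option autoImplicit false

namespace Cfsg.Agent.Helper69.Marg

open MulAction Cfsg.Agent.Helper58 Cfsg.Agent.Helper60.Marg
open scoped Pointwise

/-- abstract permutation-group part: a faithful group inducing at least the alternating group on
`≥ 6` points has no subgroup `K` inside a point stabiliser, normalised by the point stabiliser,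
meeting the even part nontrivially and not containing the even part of the stabiliser. -/
theorem alt_contra {G : Type*} [Group G] {X : Type*} [MulAction G X] [Fintype X] [DecidableEq X]
    (hfaith : ∀ g : G, (∀ C : X, g • C = C) → g = 1)
    (halt : ∀ σ : Equiv.Perm X, Equiv.Perm.sign σ = 1 →
      ∃ x : G, (MulAction.toPerm x : Equiv.Perm X) = σ)
    (h6 : 6 ≤ Fintype.card X) (x₀ : X) (K : Subgroup G)
    (h1 : ∀ k ∈ K, k • x₀ = x₀)
    (h2 : ∀ g : G, g • x₀ = x₀ → ∀ k ∈ K, g * k * g⁻¹ ∈ K)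
    (h3 : ∃ k ∈ K, k ≠ 1 ∧ Equiv.Perm.sign (MulAction.toPerm k : Equiv.Perm X) = 1)
    (h4 : ∃ a : G, a • x₀ = x₀ ∧ Equiv.Perm.sign (MulAction.toPerm a : Equiv.Perm X) = 1 ∧
      a ∉ K) : False := by
  classical
  obtain ⟨φ, hφ⟩ : ∃ φ : G →* Equiv.Perm X, ∀ g, φ g = MulAction.toPerm g :=
    ⟨MulAction.toPermHom G X, fun g => rfl⟩
  have hφa : ∀ (g : G) (C : X), φ g C = g • C := by
    intro g C
    rw [hφ]
    rfl
  have hinj : ∀ g g' : G, φ g = φ g' → g = g' := by
    intro g g' h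
    have h1 : g'⁻¹ * g = 1 := by
      apply hfaith
      intro C
      have := congrArg (fun σ : Equiv.Perm X => σ C) h
      simp only [hφa] at this
      rw [mul_smul, this, inv_smul_smul]
    exact (inv_mul_eq_one.mp h1).symm
  have hcard : 5 ≤ Nat.card {C : X // C ≠ x₀} := by
    rw [Nat.card_eq_fintype_card]
    have h := Fintype.card_subtype_compl (fun C : X => C = x₀)
    rw [Fintype.card_subtype_eq] at h
    have h' : Fintype.card {C : X // C ≠ x₀} = Fintype.card X - 1 := by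
      rw [← h]
    omega
  have hex : ∀ σ : alternatingGroup {C : X // C ≠ x₀},
      ∃ g : G, φ g = Equiv.Perm.ofSubtype (σ : Equiv.Perm {C : X // C ≠ x₀}) := by
    intro σ
    obtain ⟨g, hg⟩ := halt (Equiv.Perm.ofSubtype (σ : Equiv.Perm {C : X // C ≠ x₀})) (by
      rw [Equiv.Perm.sign_ofSubtype]
      exact Equiv.Perm.mem_alternatingGroup.mp σ.2)
    exact ⟨g, by rw [hφ, hg]⟩
  have hfix : ∀ (σ : alternatingGroup {C : X // C ≠ x₀}) (g : G),
      φ g = Equiv.Perm.ofSubtype (σ : Equiv.Perm {C : X // C ≠ x₀}) → g • x₀ = x₀ := by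
    intro σ g h
    have := congrArg (fun τ : Equiv.Perm X => τ x₀) h
    simp only [hφa] at this
    rw [this]
    exact Equiv.Perm.ofSubtype_apply_of_not_mem _ (fun h => h rfl)
  have hlift : ∀ g : G, g • x₀ = x₀ → Equiv.Perm.sign (φ g) = 1 →
      ∃ σ : alternatingGroup {C : X // C ≠ x₀},
        Equiv.Perm.ofSubtype (σ : Equiv.Perm {C : X // C ≠ x₀}) = φ g := by
    intro g hg hs
    have h₁ : ∀ C : X, (φ g C ≠ x₀) ↔ C ≠ x₀ := by
      intro C
      rw [hφa]
      constructor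
      · intro h hC
        apply h
        rw [hC, hg]
      · intro h hC
        apply h
        have : g • C = g • x₀ := by rw [hg]; exact hC
        exact MulAction.injective g this
    have h₂ : ∀ C : X, φ g C ≠ C → C ≠ x₀ := by
      intro C hC hCx
      apply hC
      rw [hCx, hφa]
      exact hg
    refine ⟨⟨Equiv.Perm.subtypePerm (φ g) h₁, ?_⟩, Equiv.Perm.ofSubtype_subtypePerm h₁ h₂⟩
    rw [Equiv.Perm.mem_alternatingGroup, Equiv.Perm.sign_subtypePerm _ h₁ h₂]
    exact hs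
  obtain ⟨K', hK'⟩ : ∃ K' : Subgroup (alternatingGroup {C : X // C ≠ x₀}),
      ∀ σ, σ ∈ K' ↔ ∀ g : G,
        φ g = Equiv.Perm.ofSubtype (σ : Equiv.Perm {C : X // C ≠ x₀}) → g ∈ K := by
    refine ⟨{ carrier := {σ | ∀ g : G,
                φ g = Equiv.Perm.ofSubtype (σ : Equiv.Perm {C : X // C ≠ x₀}) → g ∈ K}
              one_mem' := ?_
              mul_mem' := ?_
              inv_mem' := ?_ }, fun σ => Iff.rfl⟩
    · intro σ τ hσ hτ g hg
      obtain ⟨gσ, hgσ⟩ := hex σ
      obtain ⟨gτ, hgτ⟩ := hex τ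
      have : g = gσ * gτ := hinj _ _ (by rw [hg, map_mul, hgσ, hgτ]; simp)
      rw [this]
      exact K.mul_mem (hσ gσ hgσ) (hτ gτ hgτ)
    · intro g hg
      have : g = 1 := hinj g 1 (by rw [hg]; simp)
      rw [this]
      exact K.one_mem
    · intro σ hσ g hg
      obtain ⟨gσ, hgσ⟩ := hex σ
      have : g = gσ⁻¹ := hinj _ _ (by rw [hg, map_inv, hgσ]; simp)
      rw [this]
      exact K.inv_mem (hσ gσ hgσ)
  have hK'n : K'.Normal := by
    constructor
    intro σ hσ τ
    rw [hK'] at hσ ⊢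
    intro g hg
    obtain ⟨gσ, hgσ⟩ := hex σ
    obtain ⟨gτ, hgτ⟩ := hex τ
    have : g = gτ * gσ * gτ⁻¹ :=
      hinj _ _ (by rw [hg, map_mul, map_mul, map_inv, hgσ, hgτ]; simp)
    rw [this]
    exact h2 gτ (hfix τ gτ hgτ) gσ (hσ gσ hgσ)
  haveI := alternatingGroup.isSimpleGroup (α := {C : X // C ≠ x₀}) hcard
  rcases hK'n.eq_bot_or_eq_top with hbot | htop
  · obtain ⟨k, hkK, hk1, hks⟩ := h3
    obtain ⟨σ, hσ⟩ := hlift k (h1 k hkK) (by rw [hφ]; exact hks)
    have hσK : σ ∈ K' := by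
      rw [hK']
      intro g hg
      have : g = k := hinj _ _ (by rw [hg, hσ])
      rw [this]
      exact hkK
    rw [hbot, Subgroup.mem_bot] at hσK
    apply hk1
    apply hinj k 1
    rw [← hσ, hσK]
    simp
  · obtain ⟨a, ha0, has, haK⟩ := h4
    obtain ⟨σ, hσ⟩ := hlift a ha0 (by rw [hφ]; exact has)
    have hσK : σ ∈ K' := by
      rw [htop]
      exact Subgroup.mem_top _
    rw [hK'] at hσK
    exact haK (hσK a hσ.symm)

theorem units_int_pigeon (u v w : ℤˣ) : u = v ∨ u = w ∨ v = w := by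
  revert u v w
  decide

variable {G : Type*} [Group G] {Ω : Type*} [MulAction G Ω]

/-- (Q5) the contradiction: `G` induces at least the alternating group on `N ≥ 6` translates of a
nontrivial block, but a subgroup with at least 3 elements fixes one of the translates pointwise -/
theorem qp_contra [Finite G] [Finite Ω] [IsPretransitive G Ω]
    (hqp : ∀ N : Subgroup G, N.Normal → N ≠ ⊥ → IsPretransitive N Ω)
    {B : Set Ω} (hB : IsBlock G B) (hBnt : B.Nontrivial)
    [Fintype (orbit G B)] [DecidableEq (orbit G B)]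
    (hfaith : ∀ g : G, (∀ C : orbit G B, g • C = C) → g = 1)
    (halt : ∀ σ : Equiv.Perm (orbit G B), Equiv.Perm.sign σ = 1 →
      ∃ x : G, (MulAction.toPerm x : Equiv.Perm (orbit G B)) = σ)
    (h6 : 6 ≤ Nat.card (orbit G B))
    (B₀ : orbit G B) (H : Subgroup G) (hH : ∀ h ∈ H, ∀ x ∈ (B₀ : Set Ω), h • x = x)
    (hcard : 3 ≤ Nat.card H) : False := by
  classical
  -- the pointwise stabiliser of `B₀`
  obtain ⟨K, hK⟩ : ∃ K : Subgroup G, ∀ g, g ∈ K ↔ ∀ x ∈ (B₀ : Set Ω), g • x = x := by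
    refine ⟨{ carrier := {g | ∀ x ∈ (B₀ : Set Ω), g • x = x}
              one_mem' := fun x _ => one_smul G x
              mul_mem' := ?_
              inv_mem' := ?_ }, fun g => Iff.rfl⟩
    · intro g g' hg hg' x hx
      rw [mul_smul, hg' x hx, hg x hx]
    · intro g hg x hx
      rw [inv_smul_eq_iff, hg x hx]
  have hsetfix : ∀ g : G, g • (B₀ : Set Ω) = (B₀ : Set Ω) → g • B₀ = B₀ := by
    intro g hg
    apply Subtype.ext
    rw [orbit.coe_smul]
    exact hg
  have hsetfix' : ∀ g : G, g • B₀ = B₀ → g • (B₀ : Set Ω) = (B₀ : Set Ω) := by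
    intro g hg
    have := congrArg (fun C : orbit G B => (C : Set Ω)) hg
    simpa only [orbit.coe_smul] using this
  have h1 : ∀ k ∈ K, k • B₀ = B₀ := by
    intro k hk
    apply hsetfix
    rw [hK] at hk
    ext z
    rw [Set.mem_smul_set]
    constructor
    · rintro ⟨x, hx, rfl⟩
      rw [hk x hx]
      exact hx
    · intro hz
      exact ⟨z, hz, hk z hz⟩
  have h2 : ∀ g : G, g • B₀ = B₀ → ∀ k ∈ K, g * k * g⁻¹ ∈ K := by
    intro g hg k hk
    rw [hK] at hk ⊢
    intro x hx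
    have hgx : g⁻¹ • x ∈ (B₀ : Set Ω) := by
      rw [← Set.mem_smul_set_iff_inv_smul_mem, hsetfix' g hg]
      exact hx
    rw [mul_smul, mul_smul, hk _ hgx, smul_inv_smul]
  -- signs
  obtain ⟨s, hs⟩ : ∃ s : G →* ℤˣ, ∀ g, s g =
      Equiv.Perm.sign (MulAction.toPerm g : Equiv.Perm (orbit G B)) :=
    ⟨Equiv.Perm.sign.comp (MulAction.toPermHom G (orbit G B)), fun g => rfl⟩
  -- an even nontrivial element of `H`
  have h3 : ∃ k ∈ K, k ≠ 1 ∧
      Equiv.Perm.sign (MulAction.toPerm k : Equiv.Perm (orbit G B)) = 1 := by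
    haveI : Fintype ↥H := Fintype.ofFinite _
    rw [Nat.card_eq_fintype_card] at hcard
    obtain ⟨a, b, c, hab, hac, hbc⟩ := Fintype.two_lt_card_iff.mp hcard
    have key : ∀ u v : ↥H, u ≠ v → s u = s v → ∃ k ∈ K, k ≠ 1 ∧
        Equiv.Perm.sign (MulAction.toPerm k : Equiv.Perm (orbit G B)) = 1 := by
      intro u v huv hsuv
      refine ⟨(u : G)⁻¹ * v, ?_, ?_, ?_⟩
      · rw [hK]
        exact hH _ (H.mul_mem (H.inv_mem u.2) v.2)
      · intro h
        apply huv
        apply Subtype.ext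
        exact inv_mul_eq_one.mp h
      · rw [← hs, map_mul, map_inv, hsuv, inv_mul_cancel]
    rcases units_int_pigeon (s a) (s b) (s c) with h | h | h
    · exact key a b hab h
    · exact key a c hac h
    · exact key b c hbc h
  -- the even part is transitive on `Ω`
  obtain ⟨k, hkK, hk1, hks⟩ := h3
  obtain ⟨A, hA⟩ : ∃ A : Subgroup G, A = s.ker := ⟨_, rfl⟩
  have hAn : A.Normal := by
    rw [hA]
    infer_instance
  have hAne : A ≠ ⊥ := by
    intro h
    apply hk1
    have : k ∈ A := by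
      rw [hA, MonoidHom.mem_ker, hs]
      exact hks
    rw [h, Subgroup.mem_bot] at this
    exact this
  have hAt : IsPretransitive A Ω := hqp A hAn hAne
  -- two distinct points of `B₀`
  obtain ⟨g₀, hg₀⟩ : ∃ g₀ : G, g₀ • B = (B₀ : Set Ω) := MulAction.mem_orbit_iff.mp B₀.2
  obtain ⟨x, hx, y, hy, hxy⟩ := hBnt
  have hx' : g₀ • x ∈ (B₀ : Set Ω) := by
    rw [← hg₀]
    exact Set.smul_mem_smul_set hx
  have hy' : g₀ • y ∈ (B₀ : Set Ω) := by
    rw [← hg₀]
    exact Set.smul_mem_smul_set hy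
  have hxy' : g₀ • x ≠ g₀ • y := fun h => hxy (MulAction.injective g₀ h)
  obtain ⟨a, ha⟩ := hAt.exists_smul_eq (g₀ • x) (g₀ • y)
  have ha' : (a : G) • (g₀ • x) = g₀ • y := ha
  have hB₀ : IsBlock G (B₀ : Set Ω) := by
    rw [← hg₀]
    exact hB.translate g₀
  have haB : (a : G) • (B₀ : Set Ω) = (B₀ : Set Ω) := by
    have hne : ((a : G) • (B₀ : Set Ω) ∩ (1 : G) • (B₀ : Set Ω)).Nonempty := by
      refine ⟨g₀ • y, ?_, ?_⟩
      · rw [← ha']
        exact Set.smul_mem_smul_set hx'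
      · rw [one_smul]
        exact hy'
    have := hB₀.smul_eq_smul_of_nonempty hne
    rwa [one_smul] at this
  refine alt_contra hfaith halt (by rwa [Nat.card_eq_fintype_card] at h6) B₀ K h1 h2
    ⟨k, hkK, hk1, hks⟩ ⟨(a : G), hsetfix _ haB, ?_, ?_⟩
  · have : (a : G) ∈ s.ker := by
      rw [← hA]
      exact a.2
    rw [MonoidHom.mem_ker, hs] at this
    exact this
  · intro haK
    rw [hK] at haK
    apply hxy'
    rw [← ha', haK _ hx']

end Cfsg.Agent.Helper69.Marg
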